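import Cfsg.Agent.ConjSubgroups.Basic

/-!
# The automizer of an extraspecial Sylow subgroup of exponent `p`

If the normaliser of a Sylow subgroup `P` of order `p ^ 3` moves the `p + 1` maximal subgroups of
`P` transitively, some element of a Sylow 2-subgroup of the normaliser has a square acting
nontrivially on `P`.
-/

set_option autoImplicit false
set_option linter.style.haveILetI false

namespace CfsgLib.ConjSubgroups

open Subgroup
open scoped Pointwise

/-- A group of automorphisms of exponent two of a group of order `p ^ 2` and exponent `p` fixes a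
subgroup of order `p`. -/
theorem exists_invariant_line {p : ℕ} [Fact p.Prime] {V : Type*} [Group V] [Finite V]
    (hV : Nat.card V = p ^ 2) (hexp : ∀ v : V, v ^ p = 1) (A : Subgroup (MulAut V))
    (hA : ∀ a ∈ A, a * a = 1) :
    ∃ W : Subgroup V, Nat.card W = p ∧ ∀ a ∈ A, ∀ w ∈ W, a w ∈ W := by
  classical
  have hp : p.Prime := Fact.out
  have hc : ∀ u v : V, u * v = v * u :=
    fun u v => (IsPGroup.isMulCommutative_of_card_eq_prime_sq hV).is_comm.comm u v
  by_cases hall : ∀ a ∈ A, (∀ v, a v = v) ∨ ∀ v, a v = v⁻¹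
  · haveI : Nontrivial V := Finite.one_lt_card_iff_nontrivial.1
      (hV ▸ Nat.one_lt_pow two_ne_zero hp.one_lt)
    obtain ⟨v, hv⟩ := exists_ne (1 : V)
    refine ⟨zpowers v, by rw [Nat.card_zpowers, orderOf_eq_prime (hexp v) hv], fun a ha w hw => ?_⟩
    rcases hall a ha with h | h <;> rw [h w]
    · exact hw
    · exact inv_mem hw
  push Not at hall
  obtain ⟨t, ht, ⟨v₀, hv₀⟩, ⟨v₁, hv₁⟩⟩ := hall
  have htt : ∀ v, t (t v) = v := fun v => DFunLike.congr_fun (hA t ht) v
  let W : Subgroup V := t.toMonoidHom.eqLocus (MonoidHom.id V)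
  have hne : W ≠ ⊥ := fun h => hv₁ (by
    have hmem : t (v₁ * t v₁) = v₁ * t v₁ := by rw [map_mul, htt, hc]
    have h1 : v₁ * t v₁ ∈ W := hmem
    rw [h, mem_bot] at h1
    exact (inv_eq_of_mul_eq_one_right h1).symm)
  have htop : W ≠ ⊤ := fun h => hv₀ (h ▸ mem_top v₀ : v₀ ∈ W)
  refine ⟨W, ?_, fun a ha w hw => ?_⟩
  · obtain ⟨i, hi, hW⟩ := (Nat.dvd_prime_pow hp).1 (hV ▸ W.card_subgroup_dvd_card)
    interval_cases i
    · exact absurd (card_eq_one.1 (hW.trans (pow_zero p))) hne
    · rw [hW, pow_one]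
    · exact absurd (eq_top_of_card_eq W (hW.trans hV.symm)) htop
  · have hcomm : t * a = a * t := by
      have h1 : t * a * (t * a) = 1 := hA _ (mul_mem ht ha)
      calc t * a = (t * a)⁻¹ := eq_inv_of_mul_eq_one_left h1
        _ = a⁻¹ * t⁻¹ := mul_inv_rev t a
        _ = a * t := by
          rw [inv_eq_of_mul_eq_one_right (hA a ha), inv_eq_of_mul_eq_one_right (hA t ht)]
    show t (a w) = a w
    have := DFunLike.congr_fun hcomm w
    rw [MulAut.mul_apply, MulAut.mul_apply, show t w = w from hw] at this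
    exact this

variable {G : Type*} [Group G] [Finite G] {p : ℕ} [Fact p.Prime]

/-- The number of subgroups of order `p` in a group of order `p ^ 2` and exponent `p`. -/
theorem card_lines {V : Type*} [Group V] [Finite V] (hV : Nat.card V = p ^ 2)
    (hexp : ∀ v : V, v ^ p = 1) : Nat.card {W : Subgroup V // Nat.card W = p} = p + 1 := by
  classical
  have hp : p.Prime := Fact.out
  let f : {v : V // v ≠ 1} → Σ W : {W : Subgroup V // Nat.card W = p}, {w : W.1 // w ≠ 1} :=
    fun v => ⟨⟨zpowers v.1, by rw [Nat.card_zpowers, orderOf_eq_prime (hexp _) v.2]⟩,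
      ⟨v.1, mem_zpowers _⟩, fun h => v.2 (congrArg Subtype.val h)⟩
  have hf : Function.Bijective f := by
    refine ⟨fun u v h => Subtype.ext (congrArg (fun s => ((s.2.1 : s.1.1) : V)) h), ?_⟩
    rintro ⟨⟨W, hW⟩, ⟨w, hwW⟩, hw⟩
    have hw1 : w ≠ 1 := fun h => hw (Subtype.ext h)
    refine ⟨⟨w, hw1⟩, ?_⟩
    have hWe : zpowers w = W := eq_of_le_of_card_ge (zpowers_le.2 hwW)
      (by rw [hW, Nat.card_zpowers, orderOf_eq_prime (hexp w) hw1])
    subst hWe
    rfl
  have h1 := Nat.card_congr (Equiv.ofBijective f hf)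
  haveI : Fintype {W : Subgroup V // Nat.card W = p} := Fintype.ofFinite _
  rw [Nat.card_sigma] at h1
  have h2 : ∀ W : {W : Subgroup V // Nat.card W = p}, Nat.card {w : W.1 // w ≠ 1} = p - 1 := by
    intro W
    haveI := Fintype.ofFinite W.1
    rw [Nat.card_eq_fintype_card, Fintype.card_subtype_compl, Fintype.card_subtype_eq,
      ← Nat.card_eq_fintype_card, W.2]
  rw [Finset.sum_congr rfl fun W _ => h2 W, Finset.sum_const, Finset.card_univ,
    ← Nat.card_eq_fintype_card, smul_eq_mul] at h1
  haveI := Fintype.ofFinite V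
  rw [Nat.card_eq_fintype_card, Fintype.card_subtype_compl, Fintype.card_subtype_eq,
    ← Nat.card_eq_fintype_card, hV] at h1
  refine Nat.eq_of_mul_eq_mul_right (Nat.sub_pos_of_lt hp.one_lt) (h1.symm.trans ?_)
  have := hp.one_le
  obtain ⟨k, rfl⟩ := Nat.exists_eq_add_of_le this
  simp only [Nat.add_sub_cancel_left]
  rw [show (1 + k) ^ 2 = (1 + k + 1) * k + 1 by ring, Nat.add_sub_cancel]

/-- The automorphism of `Q ⧸ Z(Q)` induced by one of `Q`. -/
def centreQuotientAut (Q : Type*) [Group Q] : MulAut Q →* MulAut (Q ⧸ center Q) where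
  toFun a := QuotientGroup.congr _ _ a (characteristic_iff_map_eq.1 inferInstance a)
  map_one' := MulEquiv.ext fun q => by induction q using QuotientGroup.induction_on; rfl
  map_mul' a b := MulEquiv.ext fun q => by induction q using QuotientGroup.induction_on; rfl

/-- Subgroups normalised by `P` and conjugate in `G` are conjugate in `N(P)`. -/
theorem exists_normalizer_conj (P : Sylow p G) {E E' : Subgroup G}
    (hE : (P : Subgroup G) ≤ normalizer (E : Set G))
    (hE' : (P : Subgroup G) ≤ normalizer (E' : Set G)) {g : G}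
    (hg : E' = E.map (MulAut.conj g).toMonoidHom) :
    ∃ n ∈ normalizer ((P : Subgroup G) : Set G), E' = E.map (MulAut.conj n).toMonoidHom := by
  have hgP : ((g • P : Sylow p G) : Subgroup G) ≤ normalizer (E' : Set G) := by
    subst hg
    exact le_trans (map_mono hE) (le_normalizer_map _)
  obtain ⟨h, hh⟩ := MulAction.exists_smul_eq (normalizer (E' : Set G))
    ((g • P).subtype hgP) (P.subtype hE')
  have hh' : ((h : G) * g) • P = P := by
    rw [mul_smul]
    have hle : (((h : G) • g • P : Sylow p G) : Subgroup G) ≤ normalizer (E' : Set G) :=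
      Sylow.smul_le hgP h
    refine Sylow.subtype_injective (hP := hle) (hQ := hE') ?_
    exact (Sylow.smul_subtype hgP h).symm.trans hh
  refine ⟨(h : G) * g, Sylow.smul_eq_iff_mem_normalizer.1 hh', ?_⟩
  have hfix : E'.map (MulAut.conj (h : G)).toMonoidHom = E' := by
    ext x
    rw [mem_map_equiv]
    exact ((mem_normalizer_iff'.1 h.2) _).trans (by simp)
  refine hfix.symm.trans ?_
  generalize (h : G) = c
  subst hg
  rw [map_map]
  congr 1
  ext x
  simp [mul_assoc]

/-- A Sylow subgroup of exponent `p`, `p` odd, in which the subgroups of each order are fused, is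
abelian when the squares of the 2-elements normalising it centralise it. -/
theorem isMulCommutative_of_exponent (hp2 : p ≠ 2) (P : Sylow p G) (hP : ConjIn (P : Subgroup G))
    (hexp : ∀ x ∈ (P : Subgroup G), x ^ p = 1)
    (hsq : ∀ (t : G) (k : ℕ), orderOf t = 2 ^ k → t ∈ normalizer ((P : Subgroup G) : Set G) →
      ∀ x ∈ (P : Subgroup G), Commute (t * t) x) :
    IsMulCommutative (P : Subgroup G) := by
  classical
  have hp : p.Prime := Fact.out
  by_contra hna
  let Q := (P : Subgroup G)
  have hQexp : ∀ x : Q, x ^ p = 1 := fun x => Subtype.ext (hexp x x.2)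
  obtain ⟨⟨R, hR, hRna⟩, hcases⟩ := exists_subgroups (P := Q) P.isPGroup' hQexp hna
  have hcube : Nat.card Q = p ^ 3 ∧ Nat.card (center Q) = p := by
    refine hcases.resolve_right ?_
    rintro ⟨A, hA, hAc⟩
    obtain ⟨K, hKA, hK⟩ := exists_le_card (p := p) (k := 3)
      ((P.isPGroup'.to_subgroup A).map Q.subtype)
      (hA.trans (card_map_of_injective Q.subtype_injective).ge)
    obtain ⟨g, hg⟩ := hP (R.map Q.subtype) K (map_subtype_le R) (hKA.trans (map_subtype_le A))
      ((card_map_of_injective Q.subtype_injective).trans (hR.trans hK.symm))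
    refine hRna ⟨⟨fun a b => ?_⟩⟩
    have key : ∀ r : R, ∃ u ∈ A, (u : G) = g * ((r : Q) : G) * g⁻¹ := fun r => by
      have : g * ((r : Q) : G) * g⁻¹ ∈ K := hg ▸ ⟨_, ⟨r, r.2, rfl⟩, rfl⟩
      obtain ⟨u, hu, e⟩ := hKA this
      exact ⟨u, hu, e⟩
    obtain ⟨u, hu, eu⟩ := key a
    obtain ⟨v, hv, ev⟩ := key b
    have := congrArg (fun z : A => ((z : Q) : G)) (hAc.is_comm.comm ⟨u, hu⟩ ⟨v, hv⟩)
    simp only [MulMemClass.coe_mul, eu, ev] at this
    refine Subtype.ext (Subtype.ext ((MulAut.conj g).injective ?_))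
    simp only [MulMemClass.coe_mul, map_mul, MulAut.conj_apply]
    exact this
  let V := Q ⧸ center Q
  have hV : Nat.card V = p ^ 2 := by
    have h := (center Q).index_mul_card
    rw [hcube.1, hcube.2, index_eq_card, pow_succ] at h
    exact Nat.eq_of_mul_eq_mul_right hp.pos h
  have hVexp : ∀ v : V, v ^ p = 1 := fun v => by
    induction v using QuotientGroup.induction_on with
    | H x => rw [← QuotientGroup.mk_pow, hQexp, QuotientGroup.mk_one]
  haveI hVc : IsMulCommutative V := IsPGroup.isMulCommutative_of_card_eq_prime_sq hV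
  let N := normalizer (Q : Set G)
  let ψ : N →* MulAut V := (centreQuotientAut Q).comp Q.normalizerMonoidHom
  let lift : Subgroup V → Subgroup G := fun W => (W.comap (QuotientGroup.mk' _)).map Q.subtype
  have hψ : ∀ (n : N) (x : Q) (y : Q), (y : G) = (n : G) * x * (n : G)⁻¹ →
      ψ n (x : V) = (y : V) := fun n x y e => congrArg (QuotientGroup.mk (s := center Q))
        (Subtype.ext e.symm : Q.normalizerMonoidHom n x = y)
  letI : MulAction N (Subgroup V) := MulAction.compHom _ ψ
  have hsmul : ∀ (n : N) (W : Subgroup V), n • W = W.map (ψ n).toMonoidHom := fun n W => rfl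
  have hcm : ∀ (n : N) (W : Subgroup V), Nat.card (W.map (ψ n).toMonoidHom) = Nat.card W :=
    fun n W => card_map_of_injective (f := (ψ n).toMonoidHom) (ψ n).injective
  obtain ⟨T⟩ : Nonempty (Sylow 2 N) := inferInstance
  obtain ⟨W, hW, hWT⟩ := exists_invariant_line hV hVexp ((T : Subgroup N).map ψ) (by
    rintro _ ⟨t, ht, rfl⟩
    obtain ⟨k, hk⟩ := IsPGroup.iff_orderOf.1 T.isPGroup' ⟨t, ht⟩
    rw [Subgroup.orderOf_mk, ← Subgroup.orderOf_coe] at hk
    have hc := hsq t k hk t.2
    refine MulEquiv.ext fun v => ?_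
    induction v using QuotientGroup.induction_on with
    | H x =>
      rw [← map_mul]
      refine hψ _ x x ?_
      rw [Subgroup.coe_mul, (hc x x.2).eq, mul_inv_cancel_right])
  have horbit : MulAction.orbit N W = {W' : Subgroup V | Nat.card W' = p} := by
    ext W'
    constructor
    · rintro ⟨n, rfl⟩
      show Nat.card (n • W : Subgroup V) = p
      rw [hsmul, hcm, hW]
    · intro hW'
      have hcard : ∀ U : Subgroup V, Nat.card U = p → Nat.card (lift U) = p ^ 2 := by
        intro U hU
        show Nat.card ((U.comap (QuotientGroup.mk' _)).map Q.subtype : Subgroup G) = p ^ 2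
        rw [card_map_of_injective Q.subtype_injective]
        have h := (U.comap (QuotientGroup.mk' (center Q))).index_mul_card
        rw [index_comap_of_surjective U (QuotientGroup.mk'_surjective _)] at h
        have h' := U.index_mul_card
        rw [hU, hV, pow_two] at h'
        rw [Nat.eq_of_mul_eq_mul_right hp.pos h', hcube.1, pow_succ', pow_two] at h
        rw [pow_two]
        exact Nat.eq_of_mul_eq_mul_left hp.pos h
      have hnorm : ∀ U : Subgroup V, Q ≤ normalizer (lift U : Set G) := fun U => by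
        haveI : U.Normal := inferInstance
        calc Q = (normalizer ((U.comap (QuotientGroup.mk' (center Q))) : Set Q)).map Q.subtype := by
              rw [normalizer_eq_top, ← MonoidHom.range_eq_map, range_subtype]
          _ ≤ _ := le_normalizer_map _
      obtain ⟨g, hg⟩ := hP (lift W) (lift W') (map_subtype_le _) (map_subtype_le _)
        ((hcard W hW).trans (hcard W' hW').symm)
      obtain ⟨n, hn, hn'⟩ := exists_normalizer_conj P (hnorm W) (hnorm W') hg
      refine ⟨⟨n, hn⟩, ?_⟩
      show (⟨n, hn⟩ : N) • W = W'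
      rw [hsmul]
      refine eq_of_le_of_card_ge ?_ (by rw [hcm, hW, hW'])
      rintro _ ⟨w, hw, rfl⟩
      obtain ⟨x, rfl⟩ := QuotientGroup.mk_surjective w
      have hmem : n * (x : G) * n⁻¹ ∈ lift W' := hn' ▸ ⟨x, ⟨x, hw, rfl⟩, rfl⟩
      obtain ⟨y, hy, e⟩ := hmem
      exact (hψ ⟨n, hn⟩ x y e).symm ▸ hy
  have hT : (T : Subgroup N) ≤ MulAction.stabilizer N W := fun t ht => by
    rw [MulAction.mem_stabilizer_iff, hsmul]
    refine eq_of_le_of_card_ge ?_ (hcm _ _).ge
    rintro _ ⟨w, hw, rfl⟩
    exact hWT _ ⟨t, ht, rfl⟩ w hw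
  haveI : Fact (Nat.Prime 2) := ⟨Nat.prime_two⟩
  refine T.not_dvd_index ?_
  refine dvd_trans ?_ (index_dvd_of_le hT)
  rw [MulAction.index_stabilizer, horbit, ← Nat.card_coe_set_eq]
  show 2 ∣ Nat.card {W' : Subgroup V // Nat.card W' = p}
  rw [card_lines hV hVexp]
  exact ((hp.odd_of_ne_two hp2).add_one).two_dvd

end CfsgLib.ConjSubgroups
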