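import Mathlib

/-!
# p-groups whose subgroups of equal order are isomorphic, and lemmas for their automizers

In a group in which p-subgroups of equal order are conjugate a Sylow subgroup has exponent `p` or
only one subgroup of order `p`; in the first case, if it is not abelian, it has order `p ^ 3`.
-/

set_option autoImplicit false
set_option linter.style.haveILetI false

namespace CfsgLib.ConjSubgroups

open Subgroup

variable {G : Type*} [Group G]

/-- All subgroups of `P` of the same order are conjugate in the whole group. -/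
def ConjIn (P : Subgroup G) : Prop :=
  ∀ H K : Subgroup G, H ≤ P → K ≤ P → Nat.card H = Nat.card K →
    ∃ g : G, K = H.map (MulAut.conj g).toMonoidHom

variable [Finite G] {p : ℕ} [Fact p.Prime]

/-- A subgroup of order `p ^ k` inside a larger p-subgroup. -/
theorem exists_le_card {A : Subgroup G} (hA : IsPGroup p A) {k : ℕ} (h : p ^ k ≤ Nat.card A) :
    ∃ K ≤ A, Nat.card K = p ^ k := by
  have hp : p.Prime := Fact.out
  obtain ⟨m, hm⟩ := IsPGroup.iff_card.1 hA
  have hkm : k ≤ m := (Nat.pow_le_pow_iff_right hp.one_lt).1 (hm ▸ h)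
  obtain ⟨K, hK⟩ := Sylow.exists_subgroup_card_pow_prime (G := A) p (hm ▸ pow_dvd_pow p hkm)
  exact ⟨K.map A.subtype, map_subtype_le K,
    (card_map_of_injective A.subtype_injective).trans hK⟩

omit [Finite G] in
/-- A cyclic subgroup forces the subgroups of its order to be cyclic. -/
theorem isCyclic_of_conjIn {P : Subgroup G} (hP : ConjIn P) {x : G} (hx : x ∈ P) {K : Subgroup G}
    (hK : K ≤ P) (hc : orderOf x = Nat.card K) : IsCyclic K := by
  obtain ⟨g, rfl⟩ := hP (zpowers x) K (zpowers_le.2 hx) hK (by rw [Nat.card_zpowers, hc])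
  exact isCyclic_of_surjective
    ((zpowers x).equivMapOfInjective _ (MulAut.conj g).injective).toMonoidHom
    (MulEquiv.surjective _)

/-- Either the exponent is `p`, or there is only one subgroup of order `p`. -/
theorem exponent_or_unique {P : Subgroup G} (hPp : IsPGroup p P) (hP : ConjIn P) :
    (∀ x ∈ P, x ^ p = 1) ∨ ∀ H K : Subgroup P, Nat.card H = p → Nat.card K = p → H = K := by
  classical
  have hp : p.Prime := Fact.out
  by_cases hexp : ∀ x ∈ P, x ^ p = 1
  · exact Or.inl hexp
  refine Or.inr ?_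
  push Not at hexp
  obtain ⟨x₀, hx₀, hx₀p⟩ := hexp
  obtain ⟨x, hx, hox⟩ : ∃ x ∈ P, orderOf x = p ^ 2 := by
    obtain ⟨k, hk⟩ := IsPGroup.iff_orderOf.1 hPp ⟨x₀, hx₀⟩
    rw [Subgroup.orderOf_mk] at hk
    have hk2 : 2 ≤ k := by
      by_contra h
      exact hx₀p (orderOf_dvd_iff_pow_eq_one.1 (hk ▸ (pow_dvd_pow p (show k ≤ 1 by omega)).trans
        (by rw [pow_one])))
    refine ⟨x₀ ^ p ^ (k - 2), pow_mem hx₀ _, ?_⟩
    rw [orderOf_pow_of_dvd (pow_ne_zero _ hp.ne_zero) (hk ▸ pow_dvd_pow p (Nat.sub_le k 2)), hk,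
      Nat.pow_div (Nat.sub_le k 2) hp.pos, Nat.sub_sub_self hk2]
  haveI : Nontrivial P := ⟨⟨x, hx⟩, 1, fun e => by
    have := congrArg Subtype.val e
    rw [show x = 1 from this, orderOf_one] at hox
    exact absurd hox.symm (Nat.one_lt_pow two_ne_zero hp.one_lt).ne'⟩
  haveI := hPp.center_nontrivial
  obtain ⟨z, hz⟩ := exists_prime_orderOf_dvd_card' (G := center P) p (by
    obtain ⟨m, hm⟩ := IsPGroup.iff_card.1 (hPp.to_subgroup (center P))
    rw [hm]
    refine dvd_pow_self p fun h0 => ?_
    rw [h0, pow_zero] at hm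
    exact (Finite.one_lt_card (α := center P)).ne' hm)
  suffices h : ∀ K : Subgroup P, Nat.card K = p → K = zpowers (z : P) from
    fun H K hH hK => (h H hH).trans (h K hK).symm
  intro K hK
  by_contra hne
  have hzc : Nat.card (zpowers (z : P)) = p := by rw [Nat.card_zpowers, Subgroup.orderOf_coe, hz]
  set E := zpowers (z : P) ⊔ K
  have hKc : IsMulCommutative K := by haveI := isCyclic_of_prime_card hK; infer_instance
  have hE : ∀ e ∈ E, (e : P) ^ p = 1 := by
    intro e he
    haveI : (zpowers (z : P)).Normal :=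
      ⟨fun n hn g => by
        obtain ⟨j, rfl⟩ := mem_zpowers_iff.1 hn
        rw [(mem_center_iff.1 (zpow_mem z.2 j) g), mul_inv_cancel_right]
        exact zpow_mem (mem_zpowers _) j⟩
    obtain ⟨a, ha, b, hb, rfl⟩ := mem_sup_of_normal_left.1 he
    obtain ⟨j, rfl⟩ := mem_zpowers_iff.1 ha
    have h1 : ((z : P) ^ j) ^ p = 1 := by
      rw [← zpow_natCast, ← zpow_mul, mul_comm, zpow_mul, zpow_natCast,
        orderOf_dvd_iff_pow_eq_one.1 (by rw [Subgroup.orderOf_coe, hz]), one_zpow]
    have h2 : b ^ p = 1 := orderOf_dvd_iff_pow_eq_one.1 (hK ▸ K.orderOf_dvd_natCard hb)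
    rw [(show Commute ((z : P) ^ j) b from (mem_center_iff.1 (zpow_mem z.2 j) b).symm).mul_pow, h1,
      h2, one_mul]
  have hlt : p < Nat.card E := by
    by_contra hle
    rw [not_lt] at hle
    exact hne ((eq_of_le_of_card_ge le_sup_right (hK.symm ▸ hle)).trans
      (eq_of_le_of_card_ge le_sup_left (hzc.symm ▸ hle)).symm)
  obtain ⟨m, hm⟩ := IsPGroup.iff_card.1 (hPp.to_subgroup E)
  have h2 : p ^ 2 ≤ Nat.card (E.map P.subtype) := by
    rw [card_map_of_injective P.subtype_injective, hm]
    refine Nat.pow_le_pow_right hp.pos ?_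
    by_contra h
    have := Nat.pow_le_pow_right hp.pos (show m ≤ 1 by omega)
    rw [pow_one] at this
    omega
  obtain ⟨L, hLE, hL⟩ := exists_le_card (hPp.to_le (map_subtype_le E)) h2
  haveI := isCyclic_of_conjIn hP hx (hLE.trans (map_subtype_le E)) (hox.trans hL.symm)
  obtain ⟨w, hw⟩ := IsCyclic.exists_ofOrder_eq_natCard (α := L)
  obtain ⟨e, he, hew⟩ := hLE w.2
  have : (w : G) ^ p = 1 := by
    rw [← hew, ← map_pow, hE e he, map_one]
  have h3 := orderOf_dvd_of_pow_eq_one this
  rw [Subgroup.orderOf_coe, hw, hL] at h3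
  have := Nat.le_of_dvd hp.pos h3
  nlinarith [hp.two_le]

/-- Two commuting subgroups: the order of the join is at most the product of the orders. -/
theorem card_sup_le_mul {K : Type*} [Group K] [Finite K] {A B : Subgroup K}
    (h : ∀ a ∈ A, ∀ b ∈ B, Commute a b) :
    Nat.card (A ⊔ B : Subgroup K) ≤ Nat.card A * Nat.card B := by
  have hr := MonoidHom.noncommCoprod_range A.subtype B.subtype fun a b => h a a.2 b b.2
  rw [range_subtype, range_subtype] at hr
  rw [← hr, ← Nat.card_prod]
  exact Nat.card_le_card_of_surjective _ (MonoidHom.rangeRestrict_surjective _)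

/-- Adjoining an element that centralises an abelian subgroup. -/
theorem isMulCommutative_sup {K : Type*} [Group K] {A : Subgroup K} {x : K}
    (hA : IsMulCommutative A) (hx : ∀ a ∈ A, Commute a x) :
    IsMulCommutative (A ⊔ zpowers x : Subgroup K) := by
  have h1 : A ≤ centralizer (A : Set K) := le_centralizer_iff_isMulCommutative.2 hA
  have h2 : zpowers x ≤ centralizer (A : Set K) := zpowers_le.2 (mem_centralizer_iff.2 fun a ha => hx a ha)
  have h3 : zpowers x ≤ centralizer (zpowers x : Set K) := le_centralizer_iff_isMulCommutative.2 inferInstance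
  exact le_centralizer_iff_isMulCommutative.1 (sup_le
    (le_centralizer_iff.1 (sup_le h1 h2)) (le_centralizer_iff.1 (sup_le (le_centralizer_iff.1 h2) h3)))

/-- A nonabelian p-group of exponent `p` has a nonabelian subgroup of order `p ^ 3`, and, unless
its order is `p ^ 3`, an abelian one. -/
theorem exists_subgroups {P : Type*} [Group P] [Finite P] (hPp : IsPGroup p P)
    (hexp : ∀ x : P, x ^ p = 1) (hna : ¬ IsMulCommutative P) :
    (∃ R : Subgroup P, Nat.card R = p ^ 3 ∧ ¬ IsMulCommutative R) ∧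
      ((Nat.card P = p ^ 3 ∧ Nat.card (center P) = p) ∨
        ∃ A : Subgroup P, p ^ 3 ≤ Nat.card A ∧ IsMulCommutative A) := by
  classical
  have hp : p.Prime := Fact.out
  haveI : Nontrivial P := by
    by_contra h
    rw [not_nontrivial_iff_subsingleton] at h
    exact hna ⟨⟨fun a b => Subsingleton.elim _ _⟩⟩
  haveI : Nontrivial (P ⧸ center P) := QuotientGroup.nontrivial_iff.2 fun h =>
    hna ⟨⟨fun a b => (mem_center_iff.1 (h ▸ mem_top a) b).symm⟩⟩
  haveI := (hPp.to_quotient (center P)).center_nontrivial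
  obtain ⟨⟨q, hq⟩, hq1⟩ := exists_ne (1 : center (P ⧸ center P))
  obtain ⟨b, rfl⟩ := QuotientGroup.mk_surjective q
  have hb : b ∉ center P := fun h => hq1 (Subtype.ext ((QuotientGroup.eq_one_iff b).2 h))
  have hcomm : ∀ x : P, x * b * x⁻¹ * b⁻¹ ∈ center P := by
    intro x
    rw [← QuotientGroup.eq_one_iff]
    have h1 : (x : P ⧸ center P) * b = b * x := mem_center_iff.1 hq (x : P ⧸ center P)
    simp only [QuotientGroup.mk_mul, QuotientGroup.mk_inv, h1]
    group
  obtain ⟨a, hab⟩ : ∃ a : P, a * b ≠ b * a := by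
    by_contra h
    push Not at h
    exact hb (mem_center_iff.2 h)
  have hord : ∀ x : P, x ≠ 1 → Nat.card (zpowers x) = p := fun x hx => by
    rw [Nat.card_zpowers, orderOf_eq_prime (hexp x) hx]
  have hz : ∀ x : P, Nat.card (zpowers x) ≤ p := fun x => by
    rw [Nat.card_zpowers]; exact Nat.le_of_dvd hp.pos (orderOf_dvd_of_pow_eq_one (hexp x))
  have hR : ∃ R : Subgroup P, Nat.card R = p ^ 3 ∧ ¬ IsMulCommutative R := by
    -- modulo the central commutator `c` the images of `a` and `b` commute
    set c := a * b * a⁻¹ * b⁻¹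
    haveI : (zpowers c).Normal := ⟨fun n hn g => by
      obtain ⟨j, rfl⟩ := mem_zpowers_iff.1 hn
      rw [mem_center_iff.1 (zpow_mem (hcomm a) j) g, mul_inv_cancel_right]
      exact zpow_mem (mem_zpowers _) j⟩
    let f := QuotientGroup.mk' (zpowers c)
    have hfc : Commute (f a) (f b) := by
      have h1 : f c = 1 := (QuotientGroup.eq_one_iff c).2 (mem_zpowers c)
      simp only [c, map_mul, map_inv] at h1
      exact commutatorElement_eq_one_iff_mul_comm.1 h1
    set I := zpowers (f a) ⊔ zpowers (f b)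
    have hI : Nat.card I ≤ p * p := by
      refine (card_sup_le_mul fun u hu v hv => ?_).trans (Nat.mul_le_mul ?_ ?_)
      · obtain ⟨i, rfl⟩ := mem_zpowers_iff.1 hu
        obtain ⟨j, rfl⟩ := mem_zpowers_iff.1 hv
        exact hfc.zpow_zpow i j
      · rw [← MonoidHom.map_zpowers]; exact (Nat.le_of_dvd Nat.card_pos (card_map_dvd _ _)).trans (hz a)
      · rw [← MonoidHom.map_zpowers]; exact (Nat.le_of_dvd Nat.card_pos (card_map_dvd _ _)).trans (hz b)
    set R := I.comap f
    have haR : a ∈ R := mem_sup_left (mem_zpowers (f a))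
    have hbR : b ∈ R := mem_sup_right (mem_zpowers (f b))
    have hnR : ¬ IsMulCommutative R := fun h =>
      hab (congrArg Subtype.val (h.is_comm.comm ⟨a, haR⟩ ⟨b, hbR⟩))
    have hle : Nat.card R ≤ p ^ 3 := by
      have h1 := (zpowers c).index_mul_card
      have h2 := R.index_mul_card
      rw [show R.index = I.index from index_comap_of_surjective I (QuotientGroup.mk'_surjective _)] at h2
      have h3 := I.index_mul_card
      rw [← index_eq_card] at h3
      rw [← h1, ← h3, mul_assoc] at h2
      rw [Nat.eq_of_mul_eq_mul_left (Nat.pos_of_ne_zero index_ne_zero_of_finite) h2]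
      calc Nat.card I * Nat.card (zpowers c) ≤ p * p * p := Nat.mul_le_mul hI (hz c)
        _ = p ^ 3 := by ring
    obtain ⟨m, hm⟩ := IsPGroup.iff_card.1 (hPp.to_subgroup R)
    have hm3 : m ≤ 3 := (Nat.pow_le_pow_iff_right hp.one_lt).1 (hm ▸ hle)
    refine ⟨R, ?_, hnR⟩
    rw [hm]
    interval_cases m
    · exact absurd ((card_eq_one.1 (hm.trans (pow_zero p))) ▸ haR) fun h => hab (by
        rw [mem_bot.1 h, one_mul, mul_one])
    · haveI := isCyclic_of_prime_card (α := R) (p := p) (by rw [hm, pow_one])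
      exact absurd (inferInstance : IsMulCommutative R) hnR
    · exact absurd (IsPGroup.isMulCommutative_of_card_eq_prime_sq (p := p) (G := R) hm) hnR
    · rfl
  refine ⟨hR, ?_⟩
  · obtain ⟨m, hm⟩ := IsPGroup.iff_card.1 (hPp.to_subgroup (center P))
    let φ : P →* center P :=
      { toFun := fun x => ⟨_, hcomm x⟩
        map_one' := Subtype.ext (show 1 * b * 1⁻¹ * b⁻¹ = 1 by group)
        map_mul' := fun x y => Subtype.ext (by
          have hy := mem_center_iff.1 (hcomm y)
          change x * y * b * (x * y)⁻¹ * b⁻¹ = x * b * x⁻¹ * b⁻¹ * (y * b * y⁻¹ * b⁻¹)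
          calc x * y * b * (x * y)⁻¹ * b⁻¹
              = x * (y * b * y⁻¹ * b⁻¹) * (b * x⁻¹ * b⁻¹) := by group
            _ = (y * b * y⁻¹ * b⁻¹) * (x * (b * x⁻¹ * b⁻¹)) := by rw [hy x, mul_assoc]
            _ = x * (b * x⁻¹ * b⁻¹) * (y * b * y⁻¹ * b⁻¹) := (hy _).symm
            _ = _ := by group) }
    set B := center P ⊔ zpowers b
    have hBc : IsMulCommutative B :=
      isMulCommutative_sup inferInstance fun u hu => (mem_center_iff.1 hu b).symm
    have hBlt : Nat.card (center P) < Nat.card B :=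
      Set.ncard_lt_ncard (s := (center P : Set P)) (t := (B : Set P))
        (lt_of_le_not_ge (le_sup_left : center P ≤ B) fun h => hb (h (mem_sup_right (mem_zpowers b)))) (Set.toFinite _)
    obtain ⟨n, hn⟩ := IsPGroup.iff_card.1 (hPp.to_subgroup B)
    have hmn : m < n := (Nat.pow_lt_pow_iff_right hp.one_lt).1 (hm ▸ hn ▸ hBlt)
    have hm1 : 1 ≤ m := by
      by_contra h
      haveI := hPp.center_nontrivial
      exact (Finite.one_lt_card (α := center P)).ne' (by rw [hm, show m = 0 by omega, pow_zero])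
    by_cases hn3 : 3 ≤ n
    · exact Or.inr ⟨B, hn ▸ Nat.pow_le_pow_right hp.pos hn3, hBc⟩
    have hm' : m = 1 := by omega
    subst hm'
    rw [pow_one] at hm
    obtain ⟨e, he⟩ := IsPGroup.iff_card.1 hPp
    rcases eq_or_ne e 3 with rfl | he3
    · exact Or.inl ⟨he, hm⟩
    refine Or.inr ?_
    -- the centraliser of `b` has index at most `p`
    have hk : φ.ker ≤ centralizer ({b} : Set P) := fun x hx => by
      rw [mem_centralizer_singleton_iff]
      exact commutatorElement_eq_one_iff_mul_comm.1 (congrArg Subtype.val hx)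
    have hBk : B ≤ φ.ker := fun x hx => Subtype.ext (by
      change x * b * x⁻¹ * b⁻¹ = 1
      exact commutatorElement_eq_one_iff_mul_comm.2
        (congrArg Subtype.val (hBc.is_comm.comm ⟨x, hx⟩ ⟨b, mem_sup_right (mem_zpowers b)⟩)))
    have hidx : φ.ker.index ≤ p := by
      rw [index_ker, ← hm]
      exact Nat.le_of_dvd Nat.card_pos φ.range.card_subgroup_dvd_card
    have he4 : 4 ≤ e := by
      obtain ⟨R, hR, -⟩ := hR
      have := Nat.le_of_dvd Nat.card_pos R.card_subgroup_dvd_card
      rw [hR, he, Nat.pow_le_pow_iff_right hp.one_lt] at this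
      omega
    obtain ⟨x, hxk, hxB⟩ : ∃ x ∈ φ.ker, x ∉ B := by
      by_contra h
      push Not at h
      have h1 := φ.ker.index_mul_card
      have h2 : Nat.card φ.ker ≤ Nat.card B := card_le_of_le h
      rw [he] at h1
      have h3 : p ^ e ≤ p * p ^ 2 := by
        rw [← h1]
        exact Nat.mul_le_mul hidx (h2.trans (hn ▸ Nat.pow_le_pow_right hp.pos (by omega)))
      rw [← pow_succ', Nat.pow_le_pow_iff_right hp.one_lt] at h3
      omega
    refine ⟨B ⊔ zpowers x, ?_, ?_⟩
    · obtain ⟨k, hk⟩ := IsPGroup.iff_card.1 (hPp.to_subgroup (B ⊔ zpowers x))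
      have hlt : Nat.card B < Nat.card (B ⊔ zpowers x : Subgroup P) :=
        Set.ncard_lt_ncard (s := (B : Set P)) (t := ((B ⊔ zpowers x : Subgroup P) : Set P))
          (lt_of_le_not_ge (le_sup_left : B ≤ B ⊔ zpowers x) fun h => hxB (h (mem_sup_right (mem_zpowers x)))) (Set.toFinite _)
      rw [hn, hk, Nat.pow_lt_pow_iff_right hp.one_lt] at hlt
      rw [hk]
      exact Nat.pow_le_pow_right hp.pos (by omega)
    · refine isMulCommutative_sup hBc fun u hu => ?_
      have hbx : Commute b x := (mem_centralizer_singleton_iff.1 (hk hxk)).symm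
      have hle : B ≤ centralizer ({x} : Set P) := sup_le
        (fun v hv => mem_centralizer_singleton_iff.2 (mem_center_iff.1 hv x).symm)
        (zpowers_le.2 (mem_centralizer_singleton_iff.2 hbx.eq))
      exact mem_centralizer_singleton_iff.1 (hle hu)

end CfsgLib.ConjSubgroups
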